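import Mathlib

/-!
# Flatness modulo an ideal enlarged by what dies on a quasi-compact open
-/

set_option autoImplicit false
set_option linter.style.haveILetI false

universe u

namespace Groth.Agent.FlatThick

open TensorProduct

theorem rTensor_injective_of_killed {R S N P Q : Type u} [CommRing R] [CommRing S] [Algebra R S] [AddCommGroup N]
    [Module R N] [Module.Flat S (S ⊗[R] N)] [AddCommGroup P] [AddCommGroup Q] [Module R P] [Module R Q]
    [Module S P] [Module S Q] [IsScalarTower R S P] [IsScalarTower R S Q] (f : P →ₗ[S] Q) (hf : Function.Injective f) :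
    Function.Injective ((f.restrictScalars R).rTensor N) := by
  let eP := AlgebraTensorModule.cancelBaseChange R S S P N
  let eQ := AlgebraTensorModule.cancelBaseChange R S S Q N
  have h : ∀ z, (f.restrictScalars R).rTensor N z = eQ (f.rTensor (S ⊗[R] N) (eP.symm z)) := by
    intro z
    induction z using TensorProduct.induction_on with
    | zero => simp
    | add x y hx hy => simp only [map_add, hx, hy]
    | tmul p n => simp [eP, eQ]
  intro x y hxy
  rw [h, h] at hxy
  exact eP.symm.injective (Module.Flat.rTensor_preserves_injective_linearMap f hf (eQ.injective hxy))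

theorem isTorsionBySet_of_sq {R : Type u} [CommRing R] (J : Ideal R) (hJ : J ^ 2 = ⊥) (K : Ideal R) (hK : K ≤ J) :
    Module.IsTorsionBySet R K (J : Set R) := fun x a => Subtype.ext (by
  have h : (a : R) * x ∈ J ^ 2 := by rw [sq]; exact Ideal.mul_mem_mul a.2 (hK x.2)
  rw [hJ] at h
  simpa using h)

/-- The local flatness criterion for a square zero ideal. -/
theorem flat_of_sq_zero {R N : Type u} [CommRing R] [AddCommGroup N] [Module R N] (J : Ideal R) (hJ : J ^ 2 = ⊥)
    [Module.Flat (R ⧸ J) ((R ⧸ J) ⊗[R] N)] (h : Function.Injective (J.subtype.rTensor N)) :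
    Module.Flat R N := by
  rw [Module.Flat.iff_rTensor_injective']
  intro K
  rw [injective_iff_map_eq_zero]
  intro z hz
  let P' : Ideal (R ⧸ J) := K.map (Ideal.Quotient.mk J)
  let π : K →ₗ[R] P' :=
    { toFun := fun a => ⟨Ideal.Quotient.mk J a, Ideal.mem_map_of_mem _ a.2⟩
      map_add' := fun a b => Subtype.ext (map_add _ _ _)
      map_smul' := fun a b => Subtype.ext (by
        change Ideal.Quotient.mk J (a * b) = _
        rw [map_mul]
        rfl) }
  have hπs : Function.Surjective π := fun ⟨y, hy⟩ => by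
    obtain ⟨a, ha, rfl⟩ := (Ideal.mem_map_iff_of_surjective _ Ideal.Quotient.mk_surjective).mp hy
    exact ⟨⟨a, ha⟩, rfl⟩
  let ι : (K ⊓ J : Ideal R) →ₗ[R] K := Submodule.inclusion inf_le_left
  have hex : Function.Exact ι π := fun a => by
    constructor
    · intro ha
      exact ⟨⟨a, a.2, Ideal.Quotient.eq_zero_iff_mem.mp (congrArg Subtype.val ha)⟩, rfl⟩
    · rintro ⟨b, rfl⟩
      exact Subtype.ext (Ideal.Quotient.eq_zero_iff_mem.mpr b.2.2)
  have hπz : π.rTensor N z = 0 := by
    refine rTensor_injective_of_killed (R := R) (N := N) P'.subtype P'.injective_subtype ?_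
    rw [map_zero, ← LinearMap.comp_apply, ← LinearMap.rTensor_comp]
    have : (P'.subtype.restrictScalars R).comp π = (Algebra.linearMap R (R ⧸ J)).comp K.subtype := rfl
    rw [this, LinearMap.rTensor_comp, LinearMap.comp_apply, hz, map_zero]
  obtain ⟨w, rfl⟩ := ((rTensor_exact N hex hπs) z).mp hπz
  letI := (isTorsionBySet_of_sq J hJ (K ⊓ J) inf_le_right).module
  letI := (isTorsionBySet_of_sq J hJ J le_rfl).module
  haveI : IsScalarTower R (R ⧸ J) (K ⊓ J : Ideal R) :=
    (isTorsionBySet_of_sq J hJ (K ⊓ J) inf_le_right).isScalarTower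
  haveI : IsScalarTower R (R ⧸ J) J := (isTorsionBySet_of_sq J hJ J le_rfl).isScalarTower
  let j : (K ⊓ J : Ideal R) →ₗ[R ⧸ J] J :=
    LinearMap.extendScalarsOfSurjective Ideal.Quotient.mk_surjective (Submodule.inclusion inf_le_right)
  suffices w = 0 by rw [this, map_zero]
  refine rTensor_injective_of_killed (R := R) (N := N) j (Submodule.inclusion_injective inf_le_right) (h ?_)
  rw [map_zero, map_zero, ← hz, ← LinearMap.comp_apply, ← LinearMap.rTensor_comp, ← LinearMap.comp_apply,
    ← LinearMap.rTensor_comp]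
  rfl

variable {A : Type u} [CommRing A] {M : Type u} [AddCommGroup M] [Module A M]

theorem exists_smul_eq_zero (I : Ideal A) (p : PrimeSpectrum A)
    [Module.Flat A (LocalizedModule p.asIdeal.primeCompl M)] (z : I ⊗[A] M)
    (hz : TensorProduct.lid A M (I.subtype.rTensor M z) = 0) : ∃ s : A, s ∉ p.asIdeal ∧ s • z = 0 := by
  let g := LocalizedModule.mkLinearMap p.asIdeal.primeCompl M
  have h0 : g.lTensor I z = 0 := by
    apply Module.Flat.rTensor_preserves_injective_linearMap I.subtype I.injective_subtype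
    rw [map_zero, ← LinearMap.comp_apply, LinearMap.rTensor_comp_lTensor, ← LinearMap.lTensor_comp_rTensor,
      LinearMap.comp_apply, (TensorProduct.lid A M).map_eq_zero_iff.mp hz, map_zero]
  have hcomm : ∀ v, AlgebraTensorModule.rTensor A I g (TensorProduct.comm A I M v) =
      TensorProduct.comm A I _ (g.lTensor I v) := by
    intro v
    induction v using TensorProduct.induction_on with
    | zero => simp
    | add x y hx hy => simp only [map_add, hx, hy]
    | tmul a m => rfl
  obtain ⟨⟨s, hs⟩, hsz⟩ := (IsLocalizedModule.eq_zero_iff p.asIdeal.primeCompl (AlgebraTensorModule.rTensor A I g)).mp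
    (show AlgebraTensorModule.rTensor A I g (TensorProduct.comm A I M z) = 0 by rw [hcomm, h0, map_zero])
  exact ⟨s, hs, (TensorProduct.comm A I M).injective (by rw [map_smul, map_zero]; exact hsz)⟩

theorem exists_pow_mem (Q : Ideal A) (f : A) (h : ∀ p : PrimeSpectrum A, f ∉ p.asIdeal → ∃ s ∈ Q, s ∉ p.asIdeal) :
    ∃ n : ℕ, f ^ n ∈ Q := by
  have : f ∈ Q.radical := by
    rw [Ideal.radical_eq_sInf, Submodule.mem_sInf]
    rintro P ⟨hle, hP⟩
    by_contra hf
    obtain ⟨s, hs, hsP⟩ := h ⟨P, hP⟩ hf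
    exact hsP (hle hs)
  exact this

theorem flat_tensor_of_open (I : Ideal A) (U : Set (PrimeSpectrum A)) (hU : IsOpen U) (hUc : IsCompact U)
    [Module.Flat (A ⧸ I) ((A ⧸ I) ⊗[A] M)]
    (hflat : ∀ p ∈ U, Module.Flat A (LocalizedModule p.asIdeal.primeCompl M))
    (I₂ : Ideal A) (hI₂ : ∀ x : A, x ∈ I₂ ↔ x ∈ I ∧ ∀ p ∈ U, ∃ s : A, s ∉ p.asIdeal ∧ s * x ∈ I ^ 2) :
    Module.Flat (A ⧸ I₂) ((A ⧸ I₂) ⊗[A] M) := by
  classical
  let R := A ⧸ I₂
  let mkR := Ideal.Quotient.mk I₂
  let J : Ideal R := I.map mkR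
  have hI2I : I₂ ≤ I := fun x hx => ((hI₂ x).mp hx).1
  have hIsq : I ^ 2 ≤ I₂ := fun x hx => (hI₂ x).mpr
    ⟨Ideal.pow_le_self two_ne_zero hx, fun p _ => ⟨1, p.2.ne_top ∘ (Ideal.eq_top_iff_one _).mpr,
      by rwa [one_mul]⟩⟩
  have hJ : J ^ 2 = ⊥ := by
    rw [← Ideal.map_pow, Ideal.map_eq_bot_iff_le_ker, Ideal.mk_ker]
    exact hIsq
  -- the finite cover
  obtain ⟨t, ht, hUt⟩ : ∃ t : Finset A, (∀ f ∈ t, ∀ p, f ∉ p.asIdeal → p ∈ U) ∧
      ∀ p ∈ U, ∃ f ∈ t, f ∉ p.asIdeal := by
    have hcov : ∀ p ∈ U, ∃ f : A, p ∈ (PrimeSpectrum.basicOpen f : Set (PrimeSpectrum A)) ∧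
        (PrimeSpectrum.basicOpen f : Set (PrimeSpectrum A)) ⊆ U := fun p hp => by
      obtain ⟨_, ⟨f, rfl⟩, hpf, hfU⟩ := PrimeSpectrum.isTopologicalBasis_basic_opens.exists_subset_of_mem_open hp hU
      exact ⟨f, hpf, hfU⟩
    choose f hpf hfU using hcov
    obtain ⟨s, hs⟩ := hUc.elim_finite_subcover (fun p : U => (PrimeSpectrum.basicOpen (f p.1 p.2) : Set (PrimeSpectrum A)))
      (fun p => (PrimeSpectrum.basicOpen _).isOpen) fun p hp => Set.mem_iUnion.mpr ⟨⟨p, hp⟩, hpf p hp⟩
    refine ⟨s.image fun p => f p.1 p.2, fun g hg p hgp => ?_, fun p hp => ?_⟩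
    · obtain ⟨q, -, rfl⟩ := Finset.mem_image.mp hg
      exact hfU q.1 q.2 hgp
    · obtain ⟨q, hq, hpq⟩ := Set.mem_iUnion₂.mp (hs hp)
      exact ⟨_, Finset.mem_image.mpr ⟨q, hq, rfl⟩, hpq⟩
  -- the localised conormal modules
  let W : t → Type u := fun i => LocalizedModule (Submonoid.powers (i : A)) I.Cotangent
  have hW : Module.IsTorsionBySet A (∀ i, W i) (I₂ : Set A) := fun x a => funext fun i => by
    obtain ⟨⟨y, d⟩, hyd⟩ := IsLocalizedModule.mk'_surjective (Submonoid.powers (i : A))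
      (LocalizedModule.mkLinearMap (Submonoid.powers (i : A)) I.Cotangent) (x i)
    obtain ⟨y, rfl⟩ := I.toCotangent_surjective y
    simp only [Function.uncurry_apply_pair] at hyd
    rw [Pi.smul_apply, ← hyd, ← IsLocalizedModule.mk'_smul, ← map_smul,
      (Ideal.toCotangent_eq_zero I _).mpr (by rw [sq]; exact Ideal.mul_mem_mul (hI2I a.2) y.2),
      IsLocalizedModule.mk'_zero]
    rfl
  letI := hW.module
  haveI : IsScalarTower A R (∀ i, W i) := hW.isScalarTower
  let c : I →ₗ[A] ∀ i, W i :=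
    LinearMap.pi fun i => (LocalizedModule.mkLinearMap (Submonoid.powers (i : A)) I.Cotangent).comp I.toCotangent
  have hc : ∀ a : I, c a = 0 ↔ (a : A) ∈ I₂ := fun a => by
    have h : c a = 0 ↔ ∀ i : t, ∃ n : ℕ, (i : A) ^ n * a ∈ I ^ 2 := by
      rw [funext_iff]
      refine forall_congr' fun i => ?_
      change LocalizedModule.mkLinearMap (Submonoid.powers (i : A)) I.Cotangent (I.toCotangent a) = 0 ↔ _
      rw [IsLocalizedModule.eq_zero_iff (Submonoid.powers (i : A))]
      constructor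
      · rintro ⟨⟨_, n, rfl⟩, hn⟩
        exact ⟨n, (Ideal.toCotangent_eq_zero I _).mp (by rwa [map_smul])⟩
      · rintro ⟨n, hn⟩
        exact ⟨⟨_, n, rfl⟩, by
          change (i : A) ^ n • I.toCotangent a = 0
          rw [← map_smul, Ideal.toCotangent_eq_zero]
          exact hn⟩
    rw [h, hI₂]
    refine ⟨fun h => ⟨a.2, fun p hp => ?_⟩, fun h i => ?_⟩
    · obtain ⟨f, hf, hfp⟩ := hUt p hp
      obtain ⟨n, hn⟩ := h ⟨f, hf⟩
      exact ⟨f ^ n, fun hmem => hfp (p.2.mem_of_pow_mem n hmem), hn⟩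
    · exact exists_pow_mem (Submodule.comap (LinearMap.mulRight A (a : A)) (I ^ 2)) i fun p hp => by
        obtain ⟨s, hs, hsa⟩ := h.2 p (ht i i.2 p hp)
        exact ⟨s, hsa, hs⟩
  let χ : I →ₗ[A] J :=
    { toFun := fun a => ⟨mkR a, Ideal.mem_map_of_mem _ a.2⟩
      map_add' := fun a b => Subtype.ext (map_add _ _ _)
      map_smul' := fun a b => Subtype.ext (by
        change mkR (a * b) = _
        rw [map_mul]
        rfl) }
  have hχs : Function.Surjective χ := fun ⟨y, hy⟩ => by
    obtain ⟨a, ha, rfl⟩ := (Ideal.mem_map_iff_of_surjective _ Ideal.Quotient.mk_surjective).mp hy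
    exact ⟨⟨a, ha⟩, rfl⟩
  have hχ : LinearMap.ker χ = LinearMap.ker c := Submodule.ext fun a => by
    rw [LinearMap.mem_ker, LinearMap.mem_ker, hc, ← Subtype.coe_inj]
    exact Ideal.Quotient.eq_zero_iff_mem
  let ψA : J →ₗ[A] ∀ i, W i :=
    (Submodule.liftQ _ c hχ.le).comp (χ.quotKerEquivOfSurjective hχs).symm.toLinearMap
  have hψA : ∀ a, ψA (χ a) = c a := fun a => by
    change Submodule.liftQ _ c hχ.le ((χ.quotKerEquivOfSurjective hχs).symm (χ a)) = c a
    rw [show (χ.quotKerEquivOfSurjective hχs).symm (χ a) = Submodule.Quotient.mk a from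
      (χ.quotKerEquivOfSurjective hχs).symm_apply_eq.2 rfl, Submodule.liftQ_apply]
  have hψinj : Function.Injective ψA := (injective_iff_map_eq_zero _).mpr fun y hy => by
    obtain ⟨a, rfl⟩ := hχs y
    rw [hψA] at hy
    exact LinearMap.mem_ker.mp (hχ.ge (LinearMap.mem_ker.mpr hy))
  -- flatness modulo `J`
  letI : Algebra (A ⧸ I) (R ⧸ J) := (Ideal.Quotient.lift I ((Ideal.Quotient.mk J).comp mkR)
    fun a ha => Ideal.Quotient.eq_zero_iff_mem.mpr (Ideal.mem_map_of_mem _ ha)).toAlgebra
  haveI : IsScalarTower A (A ⧸ I) (R ⧸ J) := IsScalarTower.of_algebraMap_eq fun _ => rfl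
  haveI : Module.Flat (R ⧸ J) ((R ⧸ J) ⊗[A] M) :=
    Module.Flat.of_linearEquiv (AlgebraTensorModule.cancelBaseChange A (A ⧸ I) (R ⧸ J) (R ⧸ J) M).symm
  haveI : Module.Flat (R ⧸ J) ((R ⧸ J) ⊗[R] (R ⊗[A] M)) :=
    Module.Flat.of_linearEquiv (AlgebraTensorModule.cancelBaseChange A R (R ⧸ J) (R ⧸ J) M)
  refine flat_of_sq_zero J hJ ((injective_iff_map_eq_zero _).mpr fun z hz => ?_)
  obtain ⟨z, rfl⟩ := (AlgebraTensorModule.cancelBaseChange A R R J M).symm.surjective z
  rw [LinearEquiv.map_eq_zero_iff]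
  obtain ⟨z, rfl⟩ := LinearMap.rTensor_surjective M hχs z
  -- the product
  have key : ∀ v : I ⊗[A] M, AlgebraTensorModule.cancelBaseChange A R R R M ((J.subtype).rTensor (R ⊗[A] M)
      ((AlgebraTensorModule.cancelBaseChange A R R J M).symm (χ.rTensor M v))) =
        (Algebra.linearMap A R).rTensor M (I.subtype.rTensor M v) := by
    intro v
    induction v using TensorProduct.induction_on with
    | zero => simp
    | add x y hx hy => simp only [map_add, hx, hy]
    | tmul a m =>
      rw [LinearMap.rTensor_tmul, AlgebraTensorModule.cancelBaseChange_symm_tmul]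
      erw [LinearMap.rTensor_tmul]
      rw [AlgebraTensorModule.cancelBaseChange_tmul, one_smul]
      rfl
  have hmul : ∃ y : (I₂ : Ideal A) ⊗[A] M, TensorProduct.lid A M (I.subtype.rTensor M z) =
      TensorProduct.lid A M (I₂.subtype.rTensor M y) := by
    have h2 : (Algebra.linearMap A R).rTensor M (I.subtype.rTensor M z) = 0 := by
      have h3 := congrArg (AlgebraTensorModule.cancelBaseChange A R R R M) hz
      rw [map_zero] at h3
      rw [← h3, key]
    obtain ⟨y, hy⟩ := ((rTensor_exact M (f := I₂.subtype) (g := Algebra.linearMap A R)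
      (fun a => ⟨fun ha => ⟨⟨a, Ideal.Quotient.eq_zero_iff_mem.mp ha⟩, rfl⟩,
        by rintro ⟨b, rfl⟩; exact Ideal.Quotient.eq_zero_iff_mem.mpr b.2⟩)
      Ideal.Quotient.mk_surjective) _).mp h2
    exact ⟨y, by rw [hy]⟩
  obtain ⟨y, hy⟩ := hmul
  let z' : I ⊗[A] M := z - (Submodule.inclusion hI2I).rTensor M y
  have hz' : TensorProduct.lid A M (I.subtype.rTensor M z') = 0 := by
    rw [map_sub, map_sub, ← LinearMap.comp_apply (I.subtype.rTensor M), ← LinearMap.rTensor_comp, hy, sub_eq_zero]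
    rfl
  have hψz : ψA.rTensor M (χ.rTensor M z) = c.rTensor M z' := by
    rw [map_sub, ← LinearMap.comp_apply, ← LinearMap.rTensor_comp, ← LinearMap.comp_apply (c.rTensor M),
      ← LinearMap.rTensor_comp, show ψA.comp χ = c from LinearMap.ext hψA,
      show c.comp (Submodule.inclusion hI2I) = 0 from LinearMap.ext fun b => (hc _).mpr b.2,
      LinearMap.rTensor_zero, LinearMap.zero_apply, sub_zero]
  have hzero : c.rTensor M z' = 0 := by
    have hid : ∑ i : t, (LinearMap.single A W i).comp (LinearMap.proj i) = LinearMap.id :=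
      LinearMap.ext fun x => by
        simp only [LinearMap.sum_apply, LinearMap.comp_apply, LinearMap.proj_apply, LinearMap.id_apply]
        exact Finset.univ_sum_single x
    rw [← LinearMap.id_apply (R := A) (c.rTensor M z'), ← LinearMap.rTensor_id, ← hid]
    rw [show (∑ i : t, (LinearMap.single A W i).comp (LinearMap.proj i)).rTensor M =
      ∑ i : t, ((LinearMap.single A W i).comp (LinearMap.proj i)).rTensor M from map_sum (LinearMap.rTensorHom M) _ _,
      LinearMap.sum_apply]
    refine Finset.sum_eq_zero fun i _ => ?_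
    rw [LinearMap.rTensor_comp, LinearMap.comp_apply]
    suffices h : (LinearMap.proj i).rTensor M (c.rTensor M z') = 0 by rw [h, map_zero]
    obtain ⟨n, hn⟩ := exists_pow_mem (LinearMap.ker (LinearMap.toSpanSingleton A (I ⊗[A] M) z')) (i : A) fun p hp => by
      haveI := hflat p (ht i i.2 p hp)
      obtain ⟨s, hs, hsz⟩ := exists_smul_eq_zero I p z' hz'
      exact ⟨s, hsz, hs⟩
    have hu : IsUnit (algebraMap A (Module.End A (W i)) ((i : A) ^ n)) :=
      IsLocalizedModule.map_units (LocalizedModule.mkLinearMap (Submonoid.powers (i : A)) I.Cotangent)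
        (⟨(i : A) ^ n, n, rfl⟩ : Submonoid.powers (i : A))
    have hu' := hu.map (Module.End.rTensorAlgHom A (W i) M)
    refine ((Module.End.isUnit_iff _).mp hu').1 ?_
    rw [map_zero, AlgHom.commutes, Module.algebraMap_end_apply, ← map_smul, ← map_smul,
      show (i : A) ^ n • z' = 0 from hn, map_zero, map_zero]
  -- conclude
  letI : Module R J := inferInstance
  letI := (isTorsionBySet_of_sq J hJ J le_rfl).module
  haveI : IsScalarTower R (R ⧸ J) J := (isTorsionBySet_of_sq J hJ J le_rfl).isScalarTower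
  let W' := ∀ i, W i
  have hJW : Module.IsTorsionBySet R W' (J : Set R) := fun x ⟨b, hb⟩ => by
    obtain ⟨a, ha, rfl⟩ := (Ideal.mem_map_iff_of_surjective _ Ideal.Quotient.mk_surjective).mp hb
    change algebraMap A R a • x = 0
    rw [algebraMap_smul]
    funext i
    obtain ⟨⟨v, d⟩, hvd⟩ := IsLocalizedModule.mk'_surjective (Submonoid.powers (i : A))
      (LocalizedModule.mkLinearMap (Submonoid.powers (i : A)) I.Cotangent) (x i)
    obtain ⟨v, rfl⟩ := I.toCotangent_surjective v
    simp only [Function.uncurry_apply_pair] at hvd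
    rw [Pi.smul_apply, ← hvd, ← IsLocalizedModule.mk'_smul, ← map_smul,
      (Ideal.toCotangent_eq_zero I _).mpr (by rw [sq]; exact Ideal.mul_mem_mul ha v.2), IsLocalizedModule.mk'_zero]
    rfl
  letI := hJW.module
  haveI : IsScalarTower R (R ⧸ J) W' := hJW.isScalarTower
  let ψR : J →ₗ[R] W' := LinearMap.extendScalarsOfSurjective Ideal.Quotient.mk_surjective ψA
  let ψ : J →ₗ[R ⧸ J] W' := LinearMap.extendScalarsOfSurjective Ideal.Quotient.mk_surjective ψR
  have hinj := rTensor_injective_of_killed (R := R) (N := R ⊗[A] M) ψ hψinj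
  let eJ := AlgebraTensorModule.cancelBaseChange A R R J M
  let eW := AlgebraTensorModule.cancelBaseChange A R R W' M
  have hnat : ∀ v, (ψ.restrictScalars R).rTensor (R ⊗[A] M) (eJ.symm v) = eW.symm (ψA.rTensor M v) := by
    intro v
    induction v using TensorProduct.induction_on with
    | zero => simp
    | add x y hx hy => simp only [map_add, hx, hy]
    | tmul a m => simp [eJ, eW]; rfl
  refine eJ.symm.injective (hinj ?_)
  rw [hnat, hψz, hzero, map_zero, map_zero, map_zero]

theorem flat_quotient_of_open [IsLocalRing A] (I : Ideal A) (U : Set (PrimeSpectrum A)) (hU : IsOpen U)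
    (hUc : IsCompact U) [Module.Flat (A ⧸ I) (M ⧸ (I • ⊤ : Submodule A M))]
    (hflat : ∀ p ∈ U, Module.Flat A (LocalizedModule p.asIdeal.primeCompl M))
    (I₂ : Ideal A) (hI₂ : ∀ x : A, x ∈ I₂ ↔ x ∈ I ∧ ∀ p ∈ U, ∃ s : A, s ∉ p.asIdeal ∧ s * x ∈ I ^ 2) :
    Module.Flat (A ⧸ I₂) (M ⧸ (I₂ • ⊤ : Submodule A M)) := by
  haveI : Module.Flat (A ⧸ I) ((A ⧸ I) ⊗[A] M) := Module.Flat.of_linearEquiv
    (LinearEquiv.extendScalarsOfSurjective Ideal.Quotient.mk_surjective (TensorProduct.quotTensorEquivQuotSMul M I))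
  haveI := flat_tensor_of_open I U hU hUc hflat I₂ hI₂
  exact Module.Flat.of_linearEquiv
    (LinearEquiv.extendScalarsOfSurjective Ideal.Quotient.mk_surjective (TensorProduct.quotTensorEquivQuotSMul M I₂)).symm

end Groth.Agent.FlatThick
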